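import Cfsg.Agent.E7P.Top.Cmb
import Cfsg.Agent.R2.T1.Inf.Pat
import Cfsg.Agent.R2.T1.Inf.Ext

/-!
# S5932, task SSC (helper71)

`Sit.ssc : p ≠ 2 → S.SSC`.
-/

set_option autoImplicit false
set_option maxRecDepth 100000

namespace Cfsg.Agent.E7P

open Cfsg Cfsg.Lie Matrix Module
open Cfsg.Agent.ChevalleyStructure.RootVec
open Cfsg.Agent.H943.E7V.Block (D1 rho)
open Cfsg.Agent.R2.T1 Cfsg.Agent.E7P.Kf
open Cfsg.Agent.H952.F4 (ev)
open Cfsg.Agent.H943.SL2Rel (u w h)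

universe u v

namespace Top

variable {k : Type u} [Field k]

theorem center_sq {z : Gh k} (hz : z ∈ Subgroup.center (Gh k)) : z * z = 1 := by
  apply faithful
  rw [map_mul]
  rcases V_center hz with h1 | h1 <;> rw [h1]
  · exact mul_one _
  · exact neg_one_mul (α := Module.End k (D1 → k)) _ |>.trans (neg_neg _)

theorem ev_neg (T : Module.End k (D1 → k)) : ev (-T) 1 = ev T (-1) := by
  unfold ev
  rw [show (-T).eigenspace 1 = T.eigenspace (-1) from Submodule.ext fun x => by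
    rw [Module.End.mem_eigenspace_iff, Module.End.mem_eigenspace_iff, LinearMap.neg_apply, neg_smul, neg_eq_iff_eq_neg]]

theorem xs_inj {r : ℕ} (hr : r < 126) {s t : k} (e : xs k r s = xs k r t) : s = t := by
  have h1 := congrArg (rho k) e
  rw [rho_xs' hr, rho_xs' hr, add_right_inj] at h1
  obtain ⟨i, j, hij⟩ := exists_NM_ne (K := k) hr
  exact mul_right_cancel₀ hij (congrFun (congrFun h1 i) j)

theorem prod_pow_bt {n : ℕ} {t : Fin chevE7.rank → kˣ} (hn : ∀ j < 7, rtv (chevE7.simple j) t = (-1) ^ bt n j)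
    (c : ℕ → ℤ) (c' : ℕ → ℕ) (hc : ∀ j < 7, c j = c' j) :
    ∏ j ∈ Finset.range 7, rtv (chevE7.simple j) t ^ c j = (-1) ^ s7 fun j => c' j * bt n j := by
  rw [s7_eq, ← Finset.prod_pow_eq_pow_sum]
  refine Finset.prod_congr rfl fun j hj => ?_
  rw [hn j (Finset.mem_range.1 hj), hc j (Finset.mem_range.1 hj), zpow_natCast, ← pow_mul, mul_comm]

theorem rt_topv : ∀ j < 7, rt chevE8 (nn topv) j = ([2, 3, 4, 6, 5, 4, 3].getD j 0 : ℕ) := by decide +kernel

/-- the signs of a square root of `-1` -/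
theorem exists_signs (h2 : (2 : k) ≠ 0) {t : Fin chevE7.rank → kˣ} (ht : V k (Phi k t * Phi k t) = -1) :
    ∃ n < 128, (bt n 1 + bt n 4 + bt n 6) % 2 = 1 ∧ ∀ r < 126, 63 ≤ r → (rtv r t = 1 ↔ par n r = 0) := by
  classical
  have hm : (-1 : kˣ) ≠ 1 := fun h0 => h2 (by
    have h1 : (-1 : k) = 1 := congrArg Units.val h0
    linear_combination -h1)
  have h1 : ∀ r < 126, rtv r t = 1 ∨ rtv r t = -1 := fun r hr => by
    have h3 : Phi k (t * t) ∈ Subgroup.center (Gh k) := by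
      rw [map_mul]; exact mem_center_iff.2 (Or.inr ht)
    have h4 : ch (rc r) (t * t) = 1 := (isPhi.mem_iff _).1 h3 r hr
    refine units_sq ?_
    rw [sq, ← h4]
    unfold ch rtv
    rw [← Finset.prod_mul_distrib]
    exact Finset.prod_congr rfl fun i _ => (mul_zpow _ _ _).symm
  obtain ⟨n, hn, h3⟩ := exists_bits (fun j => if rtv (chevE7.simple j) t = 1 then 0 else 1) fun j => by
    split_ifs <;> norm_num
  have h4 : ∀ j < 7, rtv (chevE7.simple j) t = (-1) ^ bt n j := fun j hj => by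
    rw [h3 j hj]
    split_ifs with h5
    · rw [h5, pow_zero]
    · rw [pow_one]
      exact (h1 _ (simple_lt7 j hj)).resolve_left h5
  refine ⟨n, hn, ?_, fun r hr hr' => ?_⟩
  · have h5 := wt_eq' topv t
    rw [prod_pow_bt h4 _ _ rt_topv] at h5
    have h6 : wt botv t * wt botv t = -1 := by
      apply Units.ext
      have h7 := congrFun (LinearMap.congr_fun ht fun _ => 1) botv
      rw [V_mul, V_apply, V_apply, rho_Phi, mulVec_diagonal, mulVec_diagonal, mul_one] at h7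
      exact h7
    have h7 : wt botv t * wt topv t = 1 := by rw [wt_bot, inv_mul_cancel]
    rw [h5, ← mul_assoc, h6, ← pow_succ', neg_one_pow_eq_one_iff_even hm, Nat.even_iff] at h7
    simp only [s7, List.getD_cons_zero, List.getD_cons_succ] at h7
    omega
  · rw [rtv_eq hr, prod_pow_bt h4 _ _ (chk_rl r hr hr'), neg_one_pow_eq_one_iff_even hm, Nat.even_iff]
    rfl

end Top

namespace Sit

open Cfsg.Agent.E7P.Top

variable {p a b : ℕ} {F : Type u} {K : Type v} {k : Type u} [Field F] [Fintype F] [Field K] [Fintype K] [Field k]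
  (S : Sit p a b F K k)

/-- the involutions -/
theorem ssc_two (hp : p ≠ 2) {y : Gh k} (hσ : V k (S.σ y) = - V k y) (hy : y * y = 1) : False := by
  have := S.closed
  have := S.chark
  have : Fact p.Prime := ⟨S.prime⟩
  have h2 := S.top_two hp
  have hζ : IsPrimitiveRoot (-1 : kˣ) 2 := by
    rw [← IsPrimitiveRoot.coe_units_iff]
    exact IsPrimitiveRoot.neg_one p hp
  obtain ⟨P, hP, h1⟩ := exists_pat chk2 two_pos hζ
    (frameK p S.alg two_ne_zero (coprime_of_cast S.prime (by exact_mod_cast h2)) (y := y) (by rw [sq, hy]))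
  have h3 := (h1 0 two_pos).1
  have h4 := (h1 1 one_lt_two).1
  have h5 := ev_V S.s y 1
  rw [map_one, show emb S.s y = S.σ y from rfl, hσ, ev_neg] at h5
  rw [pow_zero, ← h5] at h3
  rw [pow_one, Units.val_neg, Units.val_one, h3] at h4
  revert h4
  revert P
  have key : ∀ P ∈ T2, P.1.getD 0 0 ≠ P.1.getD 1 0 := by decide
  intro P hP _ _ h4
  exact key P hP h4

/-- **SSC** -/
theorem ssc (hp : p ≠ 2) : S.SSC := by
  classical
  intro y hy hσ
  have := S.closed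
  have := S.chark
  have h2 := S.top_two hp
  have hz := S.σ_σ_of_neg hσ
  obtain ⟨z, hz'⟩ : ∃ z, z = y⁻¹ * S.σ y := ⟨_, rfl⟩
  rw [← hz'] at hz
  have e : S.σ y = y * z := by rw [hz']; group
  have hzc := Subgroup.mem_center_iff.1 hz
  have hyA := S.mem_CA.2 hy
  have hy2 : y * y ∈ Subgroup.center (Gh k) := S.cent_fix (S.mem_CA.1 (mul_mem hyA hyA)) (by
    rw [map_mul, e, mul_assoc, ← mul_assoc z, ← hzc, mul_assoc, center_sq hz, mul_one])
  rcases V_center hy2 with h3 | h3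
  · exact S.ssc_two hp hσ (faithful h3)
  have hnc : y ∉ Subgroup.center (Gh k) := fun hc => S.ssc_two hp hσ (center_sq hc)
  have hy4 : y ^ 4 = 1 := by rw [show 4 = 2 * 2 from rfl, pow_mul, sq, sq, center_sq hy2]
  have hP : y ∈ S.P := S.mem_P_of_norm fun x hx => by
    obtain ⟨t, rfl⟩ := hx
    rw [mul_assoc, hy, inv_mul_cancel_left]
    exact ⟨t, rfl⟩
  obtain ⟨g1, hg1, t, e1⟩ := exists_conj_T_Pl S.prime S.alg (N := 4) (y := S.g0⁻¹ * y * S.g0)
    (by rw [show ((4 : ℕ) : k) = 2 * 2 by norm_num]; exact mul_ne_zero h2 h2) (by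
      have h4 := conj_pow (a := S.g0⁻¹) (b := y) (i := 4)
      rw [inv_inv] at h4
      rw [h4, hy4, mul_one, inv_mul_cancel]) (S.mem_P.1 hP)
  obtain ⟨g, hg⟩ : ∃ g, g = S.g0 * g1 := ⟨_, rfl⟩
  have e2 : y = g * Phi k t * g⁻¹ := by
    rw [hg, show S.g0 * g1 * Phi k t * (S.g0 * g1)⁻¹ = S.g0 * (g1 * Phi k t * g1⁻¹) * S.g0⁻¹ by group, ← e1]
    group
  let C : Subgroup (Gh k) := Subgroup.zpowers y ⊔ Subgroup.center (Gh k)
  have hyC : y ∈ C := Subgroup.mem_sup_left (Subgroup.mem_zpowers y)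
  have hC : ∀ {T : Subgroup (Gh k)}, y ∈ T → (∀ z ∈ Subgroup.center (Gh k), z ∈ T) → ∀ c ∈ C, c ∈ T := fun h4 h5 =>
    sup_le (Subgroup.zpowers_le.2 h4) h5
  obtain ⟨d, hd, h4, h5⟩ := S.top hp C g S.β
    (fun c hc => by
      obtain ⟨_, ⟨s, rfl⟩, rfl⟩ := hC (T := (Phi k).range.map (MulAut.conj g).toMonoidHom) ⟨_, ⟨t, rfl⟩, e2.symm⟩
        (fun z hz => ⟨z, isPhi.center_le hz, by
          show g * z * g⁻¹ = z
          rw [Subgroup.mem_center_iff.1 hz, mul_inv_cancel_right]⟩) c hc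
      exact ⟨s, rfl⟩)
    (hC (T := C.comap S.σ) (by
      rw [Subgroup.mem_comap, e]
      exact mul_mem hyC (Subgroup.mem_sup_right hz)) fun z hz => by
      rw [Subgroup.mem_comap, S.k_σ_center hz]
      exact Subgroup.mem_sup_right hz)
    (fun m hm => hC (T := C.comap (MulAut.conj m).toMonoidHom) (by
      show m * y * m⁻¹ ∈ C
      rw [show m * y * m⁻¹ = y * (y⁻¹ * (m * y * m⁻¹)) by group]
      refine mul_mem hyC (Subgroup.mem_sup_right (S.cent_fix
        (S.mem_CA.1 (mul_mem (inv_mem hyA) (S.conj_mem_CA hm hyA))) ?_))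
      rw [map_mul, map_mul, map_mul, map_inv, map_inv, S.k_σ_M hm, e, ← mul_assoc m, mul_assoc (m * y), ← hzc m⁻¹,
        ← mul_assoc (m * y), ← mul_assoc, hzc]
      group) fun z hz => by
      show m * z * m⁻¹ ∈ C
      rw [Subgroup.mem_center_iff.1 hz, mul_inv_cancel_right]
      exact Subgroup.mem_sup_right hz)
    (fun c hc => S.mem_CA.1 (hC hyA (fun z hz => S.mem_CA.2 fun x => Subgroup.mem_center_iff.1 hz _) c hc))
    ⟨y, hyC, hnc⟩
    (by
      rw [show g⁻¹ * S.σ g = g1⁻¹ * (S.g0⁻¹ * S.σ S.g0) * S.σ g1 by rw [hg, map_mul]; group]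
      exact mul_mem (mul_mem (inv_mem hg1) S.g0_σ) (emb_mem_Pl S.s hg1))
    (fun c => by
      rw [show g⁻¹ * S.ψ (h c) * g = g1⁻¹ * (S.g0⁻¹ * S.ψ (h c) * S.g0) * g1 by rw [hg]; group]
      exact mul_mem (mul_mem (inv_mem hg1) (S.mem_P.1 (S.ψ_h_mem_P c))) hg1)
    (fun s => by
      rw [show g⁻¹ * S.ψ (u s) * g = g1⁻¹ * (S.g0⁻¹ * S.ψ (u s) * S.g0) * g1⁻¹⁻¹ by rw [hg]; group]
      exact Ul_conj (inv_mem hg1) (S.mem_Ru.1 (S.U_le_Ru ⟨s, rfl⟩)))
  have h6 : ∀ r < 126, (Psi C g r ↔ rtv r t = 1) := fun r hr => ⟨fun h6 => h6 t (e2 ▸ hyC), fun h6 s hs => by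
    have h7 := hC (T := Subgroup.centralizer {g * xs k r 1 * g⁻¹}) (by
      rintro _ rfl
      have h7 := Five.Phi_xs t hr 1
      rw [h6, Units.val_one, one_mul] at h7
      rw [e2]
      nth_rewrite 1 [← h7]
      group) (fun z hz x _ => Subgroup.mem_center_iff.1 hz x) _ hs _ rfl
    have h8 := Five.Phi_xs s hr 1
    rw [mul_one, show Phi k s * xs k r 1 * (Phi k s)⁻¹ =
      g⁻¹ * (g * Phi k s * g⁻¹ * (g * xs k r 1 * g⁻¹)) * g * (Phi k s)⁻¹ by group, ← h7,
      show g⁻¹ * (g * xs k r 1 * g⁻¹ * (g * Phi k s * g⁻¹)) * g * (Phi k s)⁻¹ = xs k r 1 by group] at h8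
    exact Units.ext (xs_inj hr h8).symm⟩
  obtain ⟨n, hn, hodd, h7⟩ := exists_signs h2 (t := t) (by
    rw [show Phi k t * Phi k t = g⁻¹ * (y * y) * g by rw [e2]; group, Subgroup.mem_center_iff.1 hy2, inv_mul_cancel_right]
    exact h3)
  have h8 := count S.β_dom hn hodd (fun r hr hr' => (h6 r hr).trans (h7 r hr hr')) hd h4
  generalize ((Finset.range 126).filter fun r => Psi C g r ∧ bf S.β (rv r) = d).card = m at h5 h8
  obtain ⟨c, hc, h9⟩ := S.bound
  have h10 : c ≤ 9 ∧ 0 < c := by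
    revert c
    have key : ∀ c ∈ [1, 3, 4, 5, 6, 7, 9], c ≤ 9 ∧ 0 < c := by decide
    exact fun c hc _ => key c hc
  rw [h5] at h9
  have h11 := Nat.le_of_dvd h10.2 (Nat.dvd_of_mul_dvd_mul_left S.hb h9)
  rcases h8 with h8 | h8 | h8
  · have := S.ha
    rw [h5, h8, mul_zero] at this
    omega
  · exact S.ne7 (by rw [h5, h8, mul_comm])
  · omega

end Sit

end Cfsg.Agent.E7P
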